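import Cfsg.Agent.H450.UF.Geo
import Cfsg.Agent.H950.UCount
import Cfsg.Agent.H895.SLT.Sigma

/-!
# The standard model of a Hermitian space, numbers of isotropic vectors (helper450)

* `sig_eq` : `σ x = x ^ q` if `|F| = q ^ 2`;
* `exists_model` : `V` is isometric to the standard Hermitian space;
* `card_iso` : the number of nonzero isotropic vectors is `isoNum q n`;
* `card_iso_perp` : the number of isotropic vectors of `C^⊥` outside of `C` is `q^(2k) * isoNum q (n - 2k)`;
-/

set_option autoImplicit false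
set_option linter.unusedSectionVars false

namespace Cfsg.Agent.H450.UF

open Module Cfsg.Agent.H91.U Cfsg.Agent.LieClassical.HermBasic
open Cfsg.Agent.H950 (isoNum)

variable {F V : Type*} [Field F] [AddCommGroup V] [Module F V] {σ : F →+* F} {B : V →ₛₗ[σ] V →ₗ[F] F} {j : ℕ}

/-- the involution is `x ↦ x ^ q` -/
theorem sig_eq [Fintype F] {q : ℕ} (hF : Fintype.card F = q ^ 2) (ne : σ ≠ RingHom.id F) (inv : ∀ a, σ (σ a) = a)
    (x : F) : σ x = x ^ q := by
  let τ : F ≃+* F := { σ with
    invFun := σ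
    left_inv := inv
    right_inv := inv }
  obtain ⟨q₁, h1, h2⟩ := Cfsg.Agent.H895.SLT.unitary_sigma (σ := τ) inv (fun e => ne (by
    ext a
    exact congrArg (fun f : F ≃+* F => f a) e))
  have : q₁ = q := by
    rw [hF] at h1
    exact (Nat.pow_left_injective (by norm_num : 2 ≠ 0) h1).symm
  subst this
  exact h2 x

/-- orthonormal families -/
theorem exists_orthonormal [Finite F] [FiniteDimensional F V] (hB : HForm B) {k : ℕ} (hk : k ≤ finrank F V) :
    ∃ w : Fin k → V, ∀ i l, B (w i) (w l) = if i = l then 1 else 0 := by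
  induction k with
  | zero => exact ⟨fun i => i.elim0, fun i => i.elim0⟩
  | succ k ih =>
    obtain ⟨w, hw⟩ := ih (by omega)
    have hX : ∀ x ∈ Submodule.span F (Set.range w), (∀ y ∈ Submodule.span F (Set.range w), B x y = 0) → x = 0 := by
      intro x hx h
      obtain ⟨c, rfl⟩ := (Submodule.mem_span_range_iff_exists_fun F).1 hx
      refine Finset.sum_eq_zero fun i _ => ?_
      have h1 := h (w i) (Submodule.subset_span ⟨i, rfl⟩)
      have h2 : B (w i) (∑ l, c l • w l) = c i := by
        rw [map_sum]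
        simp only [smul_right, hw, mul_ite, mul_one, mul_zero, Finset.sum_ite_eq, Finset.mem_univ, if_true]
      rw [hB.swap_zero h1] at h2
      rw [← h2, zero_smul]
    have hne : Submodule.span F (Set.range w) ≠ ⊤ := by
      intro e
      have h1 : finrank F (Submodule.span F (Set.range w)) ≤ k := by
        have := finrank_range_le_card (R := F) w
        rwa [Fintype.card_fin] at this
      rw [e, finrank_top] at h1
      omega
    obtain ⟨v, -, hv, hvv⟩ := Cfsg.Agent.ClassicalGeometry.HermWitt.exists_unit_perp σ B hB.ne_id hB.invol hB.symm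
      hB.nd.1 _ hX hne
    have hv1 : ∀ i, B v (w i) = 0 := fun i => hv _ (Submodule.subset_span ⟨i, rfl⟩)
    refine ⟨Fin.snoc w v, fun i l => ?_⟩
    refine Fin.lastCases ?_ (fun i => ?_) i <;> refine Fin.lastCases ?_ (fun l => ?_) l
    · rw [Fin.snoc_last, if_pos rfl]; exact hvv
    · rw [Fin.snoc_last, Fin.snoc_castSucc, if_neg (Fin.castSucc_lt_last l).ne']; exact hv1 l
    · rw [Fin.snoc_last, Fin.snoc_castSucc, if_neg (Fin.castSucc_lt_last i).ne]; exact hB.swap_zero (hv1 i)
    · rw [Fin.snoc_castSucc, Fin.snoc_castSucc, hw]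
      simp only [Fin.castSucc_inj]

/-- orthonormal bases -/
theorem exists_orthonormal_basis [Finite F] [FiniteDimensional F V] (hB : HForm B) :
    ∃ b : Basis (Fin (finrank F V)) F V, ∀ i l, B (b i) (b l) = if i = l then 1 else 0 := by
  obtain ⟨w, hw⟩ := exists_orthonormal hB (k := finrank F V) le_rfl
  have hli : LinearIndependent F w := by
    rw [Fintype.linearIndependent_iff]
    intro c h i
    have h2 : B (w i) (∑ l, c l • w l) = c i := by
      rw [map_sum]
      simp only [smul_right, hw, mul_ite, mul_one, mul_zero, Finset.sum_ite_eq, Finset.mem_univ, if_true]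
    rw [← h2, h, map_zero]
  refine ⟨Basis.mk hli (hli.span_eq_top_of_card_eq_finrank' (Fintype.card_fin _)).ge, fun i l => ?_⟩
  rw [Basis.coe_mk]
  exact hw i l

/-- **the standard model** -/
theorem exists_model [Fintype F] [FiniteDimensional F V] {q : ℕ} (hF : Fintype.card F = q ^ 2) (hB : HForm B) :
    ∃ φ : V ≃ₗ[F] (Fin (finrank F V) → F), ∀ v w, B v w = hermForm (finrank F V) F q (φ w) (φ v) := by
  obtain ⟨b, hb⟩ := exists_orthonormal_basis hB
  refine ⟨b.equivFun, fun v w => ?_⟩
  conv_lhs => rw [← b.sum_equivFun v, ← b.sum_equivFun w]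
  rw [map_sum, herm_def]
  refine Finset.sum_congr rfl fun l _ => ?_
  rw [smul_right]
  congr 1
  rw [map_sum, LinearMap.sum_apply]
  simp only [smul_left, hb, mul_ite, mul_one, mul_zero, Finset.sum_ite_eq', Finset.mem_univ, if_true]
  exact sig_eq hF hB.ne_id hB.invol _

/-- **the number of nonzero isotropic vectors** -/
theorem card_iso [Fintype F] [FiniteDimensional F V] {q : ℕ} (hF : Fintype.card F = q ^ 2) (hB : HForm B) :
    Nat.card {v : V // B v v = 0 ∧ v ≠ 0} = isoNum q (finrank F V) := by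
  obtain ⟨φ, hφ⟩ := exists_model hF hB
  rw [← Cfsg.Agent.H950.card_iso_ne_zero hF]
  refine Nat.card_congr (Equiv.subtypeEquiv φ.toEquiv fun v => ?_)
  rw [hφ]
  exact and_congr Iff.rfl (not_congr (LinearEquiv.map_eq_zero_iff φ).symm)

/-- **the number of isotropic vectors of `C^⊥` outside of `C`** -/
theorem card_iso_perp [Fintype F] [FiniteDimensional F V] {q : ℕ} (hF : Fintype.card F = q ^ 2) (hB : HForm B)
    {C : Submodule F V} (hC : TI B C) :
    Nat.card {v : V // v ∉ C ∧ v ∈ perp B C ∧ B v v = 0} =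
      (q ^ 2) ^ finrank F C * isoNum q (finrank F V - 2 * finrank F C) := by
  obtain ⟨φ, hφ⟩ := exists_model hF hB
  have h1 := ti_two_mul_le hB hC
  have h2 : finrank F (C.map (φ : V →ₗ[F] (Fin (finrank F V) → F))) = finrank F C := LinearEquiv.finrank_map_eq φ C
  rw [← Cfsg.Agent.H950.card_ext hF (k := finrank F C) (m := finrank F V - 2 * finrank F C) (by omega) h2 (by
    rintro _ ⟨u, hu, rfl⟩ _ ⟨v, hv, rfl⟩
    have := hφ v u
    rw [hC v hv u hu] at this
    exact this.symm)]
  refine Nat.card_congr (Equiv.subtypeEquiv φ.toEquiv fun v => ?_)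
  have h3 : v ∉ C ↔ φ v ∉ C.map (φ : V →ₗ[F] (Fin (finrank F V) → F)) := by
    refine not_congr ⟨fun h => ⟨v, h, rfl⟩, ?_⟩
    rintro ⟨w, hw, e⟩
    rwa [← φ.injective e]
  have h4 : v ∈ perp B C ↔ ∀ w ∈ C.map (φ : V →ₗ[F] (Fin (finrank F V) → F)),
      hermForm (finrank F V) F q (φ v) w = 0 := by
    constructor
    · rintro h _ ⟨w, hw, rfl⟩
      have := hφ w v
      rw [hB.swap_zero (h w hw)] at this
      exact this.symm
    · intro h w hw
      apply hB.swap_zero
      rw [hφ]
      exact h _ ⟨w, hw, rfl⟩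
  rw [hφ v v]
  exact and_congr h3 (and_congr h4 Iff.rfl)

end Cfsg.Agent.H450.UF
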