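import Cfsg.Agent.ClassicalGeometry.HermWitt
import Cfsg.Agent.H91.U.Basic

/-!
# Hermitian forms: Witt for families, torus elements, the determinant (helper450)

`B : V →ₛₗ[σ] V →ₗ[F] F` a nondegenerate Hermitian form with respect to the involution `σ ≠ 1`.

* `exists_dual` : prescribed values of the form on a linearly independent family;
* `exists_tor` : the torus element of a hyperbolic pair, with its determinant;
* `witt_su` : Witt's theorem with determinant one, if one member of the family is orthogonal to the whole family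
  (this member is moved to a multiple);
-/

set_option autoImplicit false
set_option linter.unusedSectionVars false

namespace Cfsg.Agent.H450.UF

open Cfsg.Agent.ClassicalGeometry.HermWitt (trace_surj norm_surj exists_extension exists_represent)
open Cfsg.Agent.H91.U

variable {F V : Type*} [Field F] [AddCommGroup V] [Module F V] {σ : F →+* F} {B : V →ₛₗ[σ] V →ₗ[F] F}

theorem sw (hB : HForm B) (x y : V) : B y x = σ (B x y) := hB.swap y x

theorem self_fix (hB : HForm B) (x : V) : σ (B x x) = B x x := hB.symm.eq x x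

theorem smul_left (c : F) (x y : V) : B (c • x) y = σ c * B x y := smul_left' c x y

theorem smul_right (c : F) (x y : V) : B x (c • y) = c * B x y := smul_right' c x y

theorem sig_ne_zero {a : F} (h : a ≠ 0) : σ a ≠ 0 := (map_ne_zero σ).2 h

/-- Hilbert 90 -/
theorem hilbert90 (hB : HForm B) {t : F} (ht : t * σ t = 1) : ∃ a : F, a ≠ 0 ∧ a * (σ a)⁻¹ = t := by
  obtain ⟨y, h0, h⟩ := Cfsg.Agent.ClassicalGeometry.HermWitt.hilbert90 σ hB.ne_id hB.invol t ht
  exact ⟨y, h0, by rw [mul_inv_eq_iff_eq_mul₀ (sig_ne_zero h0), h]⟩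

/-- the trace is surjective -/
theorem exists_trace (hB : HForm B) {s : F} (hs : σ s = s) : ∃ c : F, c + σ c = s := trace_surj σ hB.ne_id hB.invol s hs

/-- prescribed values on a linearly independent family -/
theorem exists_dual [Finite F] [FiniteDimensional F V] (hB : HForm B) {ι : Type*} {w : ι → V}
    (li : LinearIndependent F w) (t : ι → F) : ∃ x : V, ∀ i, B x (w i) = t i := by
  let b := Module.Basis.span li
  have hb : ∀ i, (b i : V) = w i := fun i => congrArg Subtype.val (Module.Basis.span_apply li i)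
  obtain ⟨x, hx⟩ := exists_represent σ B hB.nd.1 (Submodule.subtype (Submodule.span F (Set.range w)))
    (Submodule.injective_subtype _) (b.constr F t)
  refine ⟨x, fun i => ?_⟩
  have := hx (b i)
  rw [b.constr_basis] at this
  rw [← hb]
  exact this

/-- make a vector isotropic -/
theorem exists_iso (hB : HForm B) {e x : V} (he : B e e = 0) (hx : B e x = 1) :
    ∃ c : F, B (x + c • e) (x + c • e) = 0 := by
  obtain ⟨c, hc⟩ := exists_trace hB (s := -B x x) (by rw [map_neg, self_fix hB])
  refine ⟨c, ?_⟩
  have h1 : B x e = 1 := by rw [sw hB e x, hx, map_one]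
  simp only [map_add, LinearMap.add_apply, smul_left, smul_right, he, hx, h1]
  linear_combination hc

/-- the torus element of a hyperbolic pair -/
theorem exists_tor [FiniteDimensional F V] (hB : HForm B) {e f : V} (he : B e e = 0) (hf : B f f = 0) (hef : B e f = 1)
    {a : F} (ha : a ≠ 0) : ∃ g : V ≃ₗ[F] V, (∀ x y, B (g x) (g y) = B x y) ∧ g e = a • e ∧ g f = (σ a)⁻¹ • f ∧
      (∀ x, B e x = 0 → B f x = 0 → g x = x) ∧ LinearMap.det (g : V →ₗ[F] V) = a * (σ a)⁻¹ := by
  have hfe : B f e = 1 := by rw [sw hB e f, hef, map_one]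
  have hsa := sig_ne_zero (σ := σ) ha
  let T1 : V →ₗ[F] V := LinearMap.transvection ((a - 1) • B f) e
  let T2 : V →ₗ[F] V := LinearMap.transvection (((σ a)⁻¹ - 1) • B e) f
  have h1 : ∀ x, T1 x = x + ((a - 1) * B f x) • e := fun x => by
    rw [LinearMap.transvection.apply]; rfl
  have h2 : ∀ x, T2 x = x + (((σ a)⁻¹ - 1) * B e x) • f := fun x => by
    rw [LinearMap.transvection.apply]; rfl
  have hT : ∀ x, (T2 ∘ₗ T1) x = x + ((a - 1) * B f x) • e + (((σ a)⁻¹ - 1) * B e x) • f := by
    intro x
    rw [LinearMap.comp_apply, h2, h1, map_add, map_smul, he, smul_zero, add_zero]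
  have hdet : LinearMap.det (T2 ∘ₗ T1) = a * (σ a)⁻¹ := by
    rw [LinearMap.det_comp, LinearMap.transvection.det, LinearMap.transvection.det, LinearMap.smul_apply,
      LinearMap.smul_apply, hef, hfe]
    simp only [smul_eq_mul]
    ring
  have hunit : IsUnit (LinearMap.det (T2 ∘ₗ T1)) := by
    rw [hdet]
    exact isUnit_iff_ne_zero.2 (mul_ne_zero ha (inv_ne_zero hsa))
  let g : V ≃ₗ[F] V := LinearEquiv.ofIsUnitDet (f := T2 ∘ₗ T1) (v := Module.finBasis F V) (v' := Module.finBasis F V) (by
    rw [LinearMap.det_toMatrix]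
    exact hunit)
  have hg : ∀ x, g x = x + ((a - 1) * B f x) • e + (((σ a)⁻¹ - 1) * B e x) • f := hT
  refine ⟨g, ?_, ?_, ?_, ?_, ?_⟩
  · intro x y
    rw [hg, hg]
    simp only [map_add, LinearMap.add_apply, smul_left, smul_right, he, hf, hef, hfe, map_mul, map_sub, map_one,
      map_inv₀, hB.invol, hB.symm.eq]
    field_simp
    ring
  · rw [hg, hfe, he, mul_zero, zero_smul, add_zero, mul_one, sub_smul, one_smul, add_sub_cancel]
  · rw [hg, hef, hf, mul_zero, zero_smul, add_zero, mul_one, sub_smul, one_smul, add_sub_cancel]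
  · intro x h3 h4
    rw [hg, h3, h4, mul_zero, mul_zero, zero_smul, zero_smul, add_zero, add_zero]
  · exact hdet

/-- the determinant of an isometry -/
theorem det_isom [FiniteDimensional F V] (hB : HForm B) {g : V ≃ₗ[F] V} (hg : ∀ x y, B (g x) (g y) = B x y) :
    LinearMap.det (g : V →ₗ[F] V) * σ (LinearMap.det (g : V →ₗ[F] V)) = 1 := by
  classical
  let b := Module.finBasis F V
  let G : Matrix (Fin (Module.finrank F V)) (Fin (Module.finrank F V)) F := fun i j => B (b i) (b j)
  let M := LinearMap.toMatrix b b (g : V →ₗ[F] V)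
  have hM : ∀ j, g (b j) = ∑ i, M i j • b i := by
    intro j
    refine (b.sum_repr (g (b j))).symm.trans (Finset.sum_congr rfl fun i _ => ?_)
    have h1 : M i j = b.repr (g (b j)) i := LinearMap.toMatrix_apply b b _ i j
    rw [h1]
  have h1 : (M.map σ).transpose * G * M = G := by
    ext i j
    rw [Matrix.mul_apply]
    change _ = B (b i) (b j)
    rw [← hg, hM i, hM j, map_sum, map_sum, Finset.sum_congr rfl]
    intro l _
    rw [Matrix.mul_apply, map_smul, smul_eq_mul, mul_comm]
    congr 1
    rw [LinearMap.sum_apply]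
    exact Finset.sum_congr rfl fun k _ => by rw [smul_left]; rfl
  have h2 : G.det ≠ 0 := by
    intro h0
    obtain ⟨v, hv, hv0⟩ := Matrix.exists_mulVec_eq_zero_iff.2 h0
    apply hv
    have h3 : ∑ j, v j • b j = 0 := by
      apply hB.nd.2
      intro y
      have h4 : (B.flip (∑ j, v j • b j)) = 0 := by
        refine b.ext fun i => ?_
        change B (b i) (∑ j, v j • b j) = 0
        rw [map_sum]
        have := congrFun hv0 i
        rw [Matrix.mulVec, Pi.zero_apply] at this
        rw [← this]
        exact Finset.sum_congr rfl fun j _ => by rw [smul_right, mul_comm]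
      exact LinearMap.congr_fun h4 y
    funext j
    exact Fintype.linearIndependent_iff.1 b.linearIndependent v h3 j
  have h3 := congrArg Matrix.det h1
  rw [Matrix.det_mul, Matrix.det_mul, Matrix.det_transpose] at h3
  have h4 : (M.map σ).det = σ M.det := (RingHom.map_det σ M).symm
  rw [h4] at h3
  have h5 : M.det = LinearMap.det (g : V →ₗ[F] V) := LinearMap.det_toMatrix b _
  rw [← h5]
  have h6 : (M.det * σ M.det) * G.det = 1 * G.det := by
    rw [one_mul]
    linear_combination h3
  exact mul_right_cancel₀ h2 h6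

/-- **Witt's theorem with determinant one** -/
theorem witt_su [Finite F] [FiniteDimensional F V] (hB : HForm B) {ι : Type*} {w w' : ι → V}
    (li : LinearIndependent F w) (li' : LinearIndependent F w') (h : ∀ i j, B (w i) (w j) = B (w' i) (w' j))
    {l : ι} (hl : ∀ i, B (w' i) (w' l) = 0) :
    ∃ g : V ≃ₗ[F] V, (∀ x y, B (g x) (g y) = B x y) ∧ LinearMap.det (g : V →ₗ[F] V) = 1 ∧
      (∀ i, i ≠ l → g (w i) = w' i) ∧ ∃ c : F, c ≠ 0 ∧ g (w l) = c • w' l := by
  classical
  obtain ⟨g, hg, hgw⟩ := witt_family hB li li' h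
  obtain ⟨a, ha, hat⟩ := hilbert90 hB (t := (LinearMap.det (g : V →ₗ[F] V))⁻¹) (by
    rw [map_inv₀, ← mul_inv, det_isom hB hg, inv_one])
  obtain ⟨x, hx⟩ := exists_dual hB li' (fun i => if i = l then 1 else 0)
  have hxl : B x (w' l) = 1 := by rw [hx, if_pos rfl]
  obtain ⟨c, hc⟩ := exists_iso hB (hl l) (x := x) (by rw [sw hB x, hxl, map_one])
  have hf : ∀ i, i ≠ l → B (x + c • w' l) (w' i) = 0 := by
    intro i hi
    rw [map_add, LinearMap.add_apply, smul_left, hx, if_neg hi, hB.swap_zero (hl i), mul_zero, add_zero]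
  obtain ⟨t, ht, hte, -, htf, htd⟩ := exists_tor hB (e := w' l) (f := x + c • w' l) (hl l) hc (by
    rw [map_add, smul_right, hl, mul_zero, add_zero, sw hB x, hxl, map_one]) ha
  refine ⟨g.trans t, fun y z => ?_, ?_, fun i hi => ?_, a, ha, ?_⟩
  · rw [LinearEquiv.trans_apply, LinearEquiv.trans_apply, ht, hg]
  · rw [LinearEquiv.coe_trans, LinearMap.det_comp, htd, hat, inv_mul_cancel₀]
    intro h0
    have := det_isom hB hg
    rw [h0, zero_mul] at this
    exact zero_ne_one this
  · rw [LinearEquiv.trans_apply, hgw, htf _ (hB.swap_zero (hl i)) (hf i hi)]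
  · rw [LinearEquiv.trans_apply, hgw, hte]

end Cfsg.Agent.H450.UF
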