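import Cfsg.Agent.H450.UF.Flag

/-!
# Hermitian geometry (helper450)

* `exists_small` : Witt's theorem in `SIso B` for families of size `k`, `2 k + 2 ≤ n`;
* `exists_vec_map`, `exists_pair_map` : `SIso B` is transitive on isotropic vectors, and on pairs of isotropic points
  with the same relation;
* `exists_iso_orth` : an isotropic vector orthogonal to `k ≤ n - 2` given vectors;
* `exists_iso_orth_not_mem` : and outside of a given subspace of small dimension;
* `Frame.snoc`, `exists_frame_snoc`, `exists_frame_of_ti`, `exists_ti_le` : extension of totally isotropic subspaces;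
* `Frame.two_mul_le` : `2 j ≤ n` for a frame of size `j`.
-/

set_option autoImplicit false
set_option linter.unusedSectionVars false

namespace Cfsg.Agent.H450.UF

open Module Cfsg.Agent.H91.U

variable {F V : Type*} [Field F] [AddCommGroup V] [Module F V] {σ : F →+* F} {B : V →ₛₗ[σ] V →ₗ[F] F} {j : ℕ}

/-- **Witt's theorem in `SIso B`**, small families -/
theorem exists_small [Finite F] [FiniteDimensional F V] (hB : HForm B) {ι : Type*} [Fintype ι] {w w' : ι → V}
    (li : LinearIndependent F w) (li' : LinearIndependent F w') (h : ∀ i j, B (w i) (w j) = B (w' i) (w' j))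
    (hn : 2 * Fintype.card ι + 2 ≤ finrank F V) : ∃ g ∈ SIso B, ∀ i, g (w i) = w' i := by
  obtain ⟨g, hg, hd, h1⟩ := witt_su_small hB li li' h hn
  exact ⟨g, mem_SIso_of hg hd, h1⟩

/-- `SIso B` is transitive on nonzero isotropic vectors -/
theorem exists_vec_map [Finite F] [FiniteDimensional F V] (hB : HForm B) (hn : 4 ≤ finrank F V) {v w : V} (hv : v ≠ 0)
    (hw : w ≠ 0) (h : B v v = B w w) : ∃ g : SIso B, g • v = w := by
  obtain ⟨g, hg, e⟩ := exists_small (B := B) hB (w := fun _ : Unit => v) (w' := fun _ : Unit => w)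
    (LinearIndependent.of_subsingleton () hv) (LinearIndependent.of_subsingleton () hw) (fun _ _ => h) (by
      rw [Fintype.card_unit]; omega)
  exact ⟨⟨g, hg⟩, e ()⟩

/-- pairs of isotropic points -/
theorem exists_pair_map [Finite F] [FiniteDimensional F V] (hB : HForm B) (hn : 6 ≤ finrank F V) {x y x' y' : V}
    (hxx : B x x = 0) (hyy : B y y = 0) (hxx' : B x' x' = 0) (hyy' : B y' y' = 0)
    (hli : LinearIndependent F ![x, y]) (hli' : LinearIndependent F ![x', y']) (h : B x y = 0 ↔ B x' y' = 0) :
    ∃ g : SIso B, g • x = x' ∧ ∃ c : F, c ≠ 0 ∧ g • y = c • y' := by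
  obtain ⟨c, hc, hxy⟩ : ∃ c : F, c ≠ 0 ∧ B x y = c * B x' y' := by
    by_cases h0 : B x y = 0
    · exact ⟨1, one_ne_zero, by rw [h0, h.1 h0, mul_zero]⟩
    · have h1 : B x' y' ≠ 0 := fun e => h0 (h.2 e)
      exact ⟨B x y / B x' y', div_ne_zero h0 h1, (div_mul_cancel₀ _ h1).symm⟩
  have hli2 : LinearIndependent F ![x', c • y'] := by
    rw [LinearIndependent.pair_iff] at hli' ⊢
    intro s t e
    have := hli' s (t * c) (by rw [← e, smul_smul])
    exact ⟨this.1, (mul_eq_zero.1 this.2).resolve_right hc⟩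
  have h2 : B x y = B x' (c • y') := by rw [smul_right, hxy]
  obtain ⟨g, hg, e⟩ := exists_small (B := B) hB hli hli2 (by
    intro a b
    fin_cases a <;> fin_cases b
    · exact hxx.trans hxx'.symm
    · exact h2
    · change B y x = B (c • y') x'
      rw [sw hB x, h2, ← sw hB x']
    · change B y y = B (c • y') (c • y')
      rw [smul_left, smul_right, hyy', hyy, mul_zero, mul_zero]) (by rw [Fintype.card_fin]; omega)
  exact ⟨⟨g, hg⟩, e 0, c, hc, e 1⟩

theorem li_of_not_perp {x y : V} (hxx : B x x = 0) (h : B x y ≠ 0) : LinearIndependent F ![x, y] := by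
  have hx : x ≠ 0 := by rintro rfl; rw [map_zero, LinearMap.zero_apply] at h; exact h rfl
  rw [LinearIndependent.pair_iff' hx]
  rintro a rfl
  rw [smul_right, hxx, mul_zero] at h
  exact h rfl

/-- an isotropic vector orthogonal to given vectors -/
theorem exists_iso_orth [Finite F] [FiniteDimensional F V] (hB : HForm B) {ι : Type*} [Fintype ι] (v : ι → V)
    (hk : Fintype.card ι + 2 ≤ finrank F V) : ∃ z, z ≠ 0 ∧ B z z = 0 ∧ ∀ i, B (v i) z = 0 := by
  let T : V →ₗ[F] (ι → F) := LinearMap.pi fun i => B (v i)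
  have h1 := LinearMap.finrank_range_add_finrank_ker T
  have h2 : finrank F (LinearMap.range T) ≤ Fintype.card ι :=
    (Submodule.finrank_le _).trans (by rw [finrank_pi])
  obtain ⟨z, hz, hz0, hzz⟩ := exists_iso_mem hB (U := LinearMap.ker T) (by omega)
  exact ⟨z, hz0, hzz, fun i => congrFun (LinearMap.mem_ker.1 hz) i⟩

/-- an isotropic vector orthogonal to given vectors outside of a subspace -/
theorem exists_iso_orth_not_mem [Finite F] [FiniteDimensional F V] (hB : HForm B) {ι : Type*} [Fintype ι] (v : ι → V)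
    (D : Submodule F V) (hk : Fintype.card ι + finrank F D + 2 ≤ finrank F V) :
    ∃ z, z ∉ D ∧ B z z = 0 ∧ ∀ i, B (v i) z = 0 := by
  let T : V →ₗ[F] (ι → F) := LinearMap.pi fun i => B (v i)
  have h1 := LinearMap.finrank_range_add_finrank_ker T
  have h2 : finrank F (LinearMap.range T) ≤ Fintype.card ι :=
    (Submodule.finrank_le _).trans (by rw [finrank_pi])
  have h3 : finrank F (LinearMap.ker T ⊓ D : Submodule F V) ≤ finrank F D := Submodule.finrank_mono inf_le_right
  obtain ⟨z, hz, hzD, hzz⟩ := exists_iso_not_mem hB (C := LinearMap.ker T) (D := D) (by omega)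
  exact ⟨z, hzD, hzz, fun i => congrFun (LinearMap.mem_ker.1 hz) i⟩

/-- for every nonzero isotropic `x` there is an isotropic `y` with `B x y = 1` -/
theorem exists_hyp [Finite F] [FiniteDimensional F V] (hB : HForm B) {x : V} (hx : x ≠ 0) (hxx : B x x = 0) :
    ∃ y, B y y = 0 ∧ B x y = 1 := by
  obtain ⟨y, hy⟩ := exists_dual (B := B) hB (w := fun _ : Unit => x) (LinearIndependent.of_subsingleton () hx)
    (fun _ => 1)
  have h1 : B x y = 1 := by rw [sw hB y, hy (), map_one]
  obtain ⟨c, hc⟩ := exists_iso hB hxx h1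
  exact ⟨_, hc, by rw [map_add, smul_right, hxx, h1, mul_zero, add_zero]⟩

/-! ### frames and totally isotropic subspaces -/

theorem finrank_perp [Finite F] [FiniteDimensional F V] (hB : HForm B) (C : Submodule F V) :
    finrank F (perp B C) + finrank F C = finrank F V := finrank_pp hB C

theorem ti_le_perp {C : Submodule F V} (h : TI B C) : C ≤ perp B C := fun x hx z hz => h x hx z hz

theorem ti_two_mul_le [Finite F] [FiniteDimensional F V] (hB : HForm B) {C : Submodule F V} (h : TI B C) :
    2 * finrank F C ≤ finrank F V := by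
  have h1 := finrank_perp hB C
  have h2 := Submodule.finrank_mono (ti_le_perp h)
  omega

theorem frame_two_mul_le [Finite F] [FiniteDimensional F V] (hB : HForm B) {u : Fin j → V} (hu : Frame B u) :
    2 * j ≤ finrank F V := by
  have h1 := ti_two_mul_le hB (hu.W_ti j)
  rwa [finrank_W hu.li le_rfl] at h1

/-- a basis of a totally isotropic subspace is a frame -/
theorem exists_frame_of_ti [FiniteDimensional F V] {C : Submodule F V} (h : TI B C) (hj : finrank F C = j) :
    ∃ u : Fin j → V, Frame B u ∧ W F u j = C := by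
  subst hj
  let b := Module.finBasis F C
  refine ⟨fun i => (b i : V), ⟨b.linearIndependent.map' C.subtype (Submodule.ker_subtype C),
    fun i l => h _ (b i).2 _ (b l).2⟩, ?_⟩
  rw [W_of_le _ le_rfl]
  have h1 : Set.range (fun i => (b i : V)) = C.subtype '' Set.range b := by
    rw [← Set.range_comp]; rfl
  rw [h1, ← Submodule.map_span, b.span_eq, Submodule.map_subtype_top]

/-- adding a vector to a frame -/
theorem frame_snoc (hB : HForm B) {u : Fin j → V} (hu : Frame B u) {z : V} (hzz : B z z = 0)
    (hz : ∀ i, B (u i) z = 0) (hz' : z ∉ Submodule.span F (Set.range u)) : Frame B (Fin.snoc u z : Fin (j + 1) → V) := by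
  refine ⟨linearIndependent_finSnoc.2 ⟨hu.li, hz'⟩, ?_⟩
  intro i l
  refine Fin.lastCases ?_ (fun i => ?_) i <;> refine Fin.lastCases ?_ (fun l => ?_) l
  · rw [Fin.snoc_last]; exact hzz
  · rw [Fin.snoc_last, Fin.snoc_castSucc]; exact hB.swap_zero (hz l)
  · rw [Fin.snoc_last, Fin.snoc_castSucc]; exact hz i
  · rw [Fin.snoc_castSucc, Fin.snoc_castSucc]; exact hu.ti i l

theorem exists_frame_snoc [Finite F] [FiniteDimensional F V] (hB : HForm B) {u : Fin j → V} (hu : Frame B u)
    (hj : 2 * j + 2 ≤ finrank F V) : ∃ z, Frame B (Fin.snoc u z : Fin (j + 1) → V) := by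
  obtain ⟨z, hz, hz', hzz⟩ := exists_iso_perp hB (C := Submodule.span F (Set.range u)) (by
    rw [finrank_span_eq_card hu.li, Fintype.card_fin]; exact hj)
  exact ⟨z, frame_snoc hB hu hzz (fun i => hB.swap_zero (hz _ (Submodule.subset_span ⟨i, rfl⟩))) hz'⟩

theorem ti_bot : TI B (⊥ : Submodule F V) := by
  intro x hx y _
  rw [(Submodule.mem_bot F).1 hx, map_zero, LinearMap.zero_apply]

theorem ti_sup_span (hB : HForm B) {C : Submodule F V} (h : TI B C) {z : V} (hz : ∀ x ∈ C, B z x = 0) (hzz : B z z = 0) :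
    TI B (C ⊔ Submodule.span F {z}) := by
  intro x hx y hy
  obtain ⟨a, ha, b, hb, rfl⟩ := Submodule.mem_sup.1 hx
  obtain ⟨a', ha', b', hb', rfl⟩ := Submodule.mem_sup.1 hy
  obtain ⟨s, rfl⟩ := Submodule.mem_span_singleton.1 hb
  obtain ⟨t, rfl⟩ := Submodule.mem_span_singleton.1 hb'
  simp only [map_add, LinearMap.add_apply, smul_left, smul_right, h a ha a' ha', hz a' ha', hB.swap_zero (hz a ha), hzz,
    mul_zero, add_zero]

/-- totally isotropic subspaces of given dimension containing a given one -/
theorem exists_ti_le [Finite F] [FiniteDimensional F V] (hB : HForm B) {C : Submodule F V} (h : TI B C) {k : ℕ}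
    (hk : finrank F C ≤ k) (hk' : 2 * k ≤ finrank F V) : ∃ C', C ≤ C' ∧ TI B C' ∧ finrank F C' = k := by
  induction k, hk using Nat.le_induction with
  | base => exact ⟨C, le_rfl, h, rfl⟩
  | succ k hk ih =>
    obtain ⟨C', h1, h2, h3⟩ := ih (by omega)
    obtain ⟨z, hz, hz', hzz⟩ := exists_iso_perp hB (C := C') (by omega)
    refine ⟨C' ⊔ Submodule.span F {z}, h1.trans le_sup_left, ti_sup_span hB h2 hz hzz, ?_⟩
    have h4 : C' ⊓ Submodule.span F {z} = ⊥ := by
      rw [eq_bot_iff]
      rintro x ⟨hx1, hx2⟩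
      obtain ⟨c, rfl⟩ := Submodule.mem_span_singleton.1 hx2
      by_cases hc : c = 0
      · rw [hc, zero_smul]; exact Submodule.zero_mem _
      · exact absurd ((Submodule.smul_mem_iff _ hc).1 hx1) hz'
    have hz0 : z ≠ 0 := fun e => hz' (e ▸ C'.zero_mem)
    have h5 := Submodule.finrank_sup_add_finrank_inf_eq C' (Submodule.span F {z})
    rw [h4, finrank_bot, finrank_span_singleton hz0] at h5
    omega

end Cfsg.Agent.H450.UF
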