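import Cfsg.Agent.H450.UF.Four
import Cfsg.Agent.H91.U.Std
import Cfsg.Agent.H783.SympStab

/-!
# The parabolic case for `PSU` (helper450)

* `exists_ti_of_pgroup` : a nontrivial `p`-subgroup `P` of `SIso B`, `p` the characteristic, gives a nonzero totally
  isotropic subspace invariant under the normaliser of `P`;
* `card_of_fixed` : a primitive action of `PSU n F q` of rank three with a point fixed by a subgroup of index prime to `p`.
-/

set_option autoImplicit false
set_option linter.unusedSectionVars false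

namespace Cfsg.Agent.H450.UF

open Module Cfsg.Agent.H91.U Subgroup
open Cfsg.Agent.H950 (isoNum)

section

variable {F V : Type*} [Field F] [AddCommGroup V] [Module F V] {σ : F →+* F} {B : V →ₛₗ[σ] V →ₗ[F] F}

variable (B) in
/-- the fixed space -/
def fixS (P : Subgroup (SIso B)) : Submodule F V where
  carrier := {v | ∀ g ∈ P, g.1 v = v}
  add_mem' := fun {x y} hx hy g hg => by rw [map_add, hx g hg, hy g hg]
  zero_mem' := fun g _ => map_zero _
  smul_mem' := fun c x hx g hg => by rw [map_smul, hx g hg]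

theorem exists_ti_of_pgroup [Finite F] [FiniteDimensional F V] (hB : HForm B) {p : ℕ} [Fact p.Prime] [CharP F p]
    {P : Subgroup (SIso B)} (hP : IsPGroup p P) (hne : P ≠ ⊥) :
    ∃ M : Submodule F V, M ≠ ⊥ ∧ TI B M ∧
      ∀ k : SIso B, (∀ x ∈ P, k * x * k⁻¹ ∈ P) → (∀ x ∈ P, k⁻¹ * x * k ∈ P) → M.map (k.1 : V →ₗ[F] V) = M := by
  classical
  have hfV : Finite V := Module.finite_of_finite F
  obtain ⟨P', hP'⟩ : ∃ P' : Subgroup (V ≃ₗ[F] V), P' = P.map (SIso B).subtype := ⟨_, rfl⟩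
  have hP'p : IsPGroup p P' := by rw [hP']; exact hP.map _
  have hP'm : ∀ g : SIso B, g ∈ P → g.1 ∈ P' := by
    intro g hg
    rw [hP']
    exact ⟨g, hg, rfl⟩
  set C : Submodule F V := fixS B P with hCdef
  have hC : ∀ v, v ∈ C ↔ ∀ g ∈ P, g.1 v = v := fun v => Iff.rfl
  have hCtop : C ≠ ⊤ := by
    intro hC1
    apply hne
    rw [eq_bot_iff]
    intro g hg
    rw [mem_bot]
    apply Subtype.ext
    apply LinearEquiv.ext
    intro v
    have : v ∈ C := by rw [hC1]; exact Submodule.mem_top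
    exact this g hg
  have hD0 : perp B C ≠ ⊥ := by
    intro h
    have h1 := finrank_perp hB C
    rw [h, finrank_bot, zero_add] at h1
    exact hCtop (Submodule.eq_top_of_finrank_eq h1)
  obtain ⟨d, hdD, hd0, hdP⟩ := H783.SympStab.exists_fixed (p := p) (P := P') hP'p hD0 (by
    rw [hP']
    rintro _ ⟨g, hg, rfl⟩ d hd c hc
    have h1 : g.1 c = c := hc g hg
    have h2 := B_smul g d c
    have h3 : g • c = c := h1
    rw [h3] at h2
    exact h2.trans (hd c hc))
  have hdC : d ∈ C := fun g hg => hdP _ (hP'm g hg)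
  -- invariance of `C`
  have hinvC : ∀ k : SIso B, (∀ x ∈ P, k⁻¹ * x * k ∈ P) → ∀ v ∈ C, k.1 v ∈ C := by
    intro k hk v hv g hg
    have h2 : (k⁻¹ * g * k).1 v = v := hv _ (hk g hg)
    have h4 : (g * k).1 v = (k * (k⁻¹ * g * k)).1 v := by
      rw [show k * (k⁻¹ * g * k) = g * k by group]
    change g.1 (k.1 v) = k.1 ((k⁻¹ * g * k).1 v) at h4
    rw [h4, h2]
  refine ⟨C ⊓ perp B C, ?_, fun x hx y hy => hx.2 y hy.1, fun k hk1 hk2 => ?_⟩
  · intro h
    have h1 : d ∈ C ⊓ perp B C := ⟨hdC, hdD⟩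
    rw [h, Submodule.mem_bot] at h1
    exact hd0 h1
  · refine Submodule.eq_of_le_of_finrank_eq ?_ (LinearEquiv.finrank_map_eq k.1 _)
    rintro _ ⟨v, hv, rfl⟩
    refine ⟨hinvC k hk2 v hv.1, fun c hc => ?_⟩
    have h1 : k⁻¹.1 c ∈ C := hinvC k⁻¹ (fun x hx => by rw [inv_inv]; exact hk1 x hx) c hc
    have h3 : k.1 (k⁻¹.1 c) = c := by
      change (k * k⁻¹).1 c = c
      rw [mul_inv_cancel]
      rfl
    have h2 : B (k.1 v) (k.1 (k⁻¹.1 c)) = B v (k⁻¹.1 c) := k.2.2 v (k⁻¹.1 c)
    rw [h3] at h2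
    exact h2.trans (hv.2 _ h1)

end

variable {F : Type*} [Field F] [Fintype F] {q n : ℕ}

/-- **The parabolic case.** -/
theorem card_of_fixed (hF : Fintype.card F = q ^ 2) {X : Type*} [Fintype X] [MulAction (Cfsg.PSU n F q) X]
    [MulAction (SIso (sB hF n)) X] (hc : ∀ (g : SIso (sB hF n)) (x : X), g • x = Cfsg.Agent.H91.U.pi hF n g • x)
    (hn : 6 ≤ n) {p : ℕ} [Fact p.Prime] [CharP F p] [MulAction.IsPreprimitive (Cfsg.PSU n F q) X] (x₀ : X)
    (h3 : Nat.card (MulAction.orbitRel.Quotient (MulAction.stabilizer (SIso (sB hF n)) x₀) X) = 3)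
    {U : Subgroup (Cfsg.PSU n F q)} (hU : ¬ p ∣ U.index) {x : X} (hx : ∀ u ∈ U, u • x = x) :
    Fintype.card X * (q ^ 2 - 1) = isoNum q n := by
  classical
  have hB := hform_sB hF n
  have hV := Cfsg.Agent.H91.U.finrank_std (F := F) n
  have hps := Cfsg.Agent.H91.U.pi_surjective hF n
  have hfin : Finite ((Fin n → F) ≃ₗ[F] (Fin n → F)) :=
    Finite.of_injective (fun g : (Fin n → F) ≃ₗ[F] (Fin n → F) => (g : (Fin n → F) → _)) DFunLike.coe_injective
  have hftS : Fintype (SIso (sB hF n)) := Fintype.ofFinite _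
  have hfP : Finite (Cfsg.PSU n F q) := Finite.of_surjective _ hps
  have htr : MulAction.IsPretransitive (SIso (sB hF n)) X := by
    refine ⟨fun a b => ?_⟩
    obtain ⟨g, hg⟩ := MulAction.exists_smul_eq (Cfsg.PSU n F q) a b
    obtain ⟨g', rfl⟩ := hps g
    exact ⟨g', by rw [hc, hg]⟩
  have hnt : Nontrivial X := by
    by_contra hcon
    rw [not_nontrivial_iff_subsingleton] at hcon
    have h1 : Nat.card (MulAction.orbitRel.Quotient (MulAction.stabilizer (SIso (sB hF n)) x₀) X) ≤ 1 := by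
      have : Subsingleton (MulAction.orbitRel.Quotient (MulAction.stabilizer (SIso (sB hF n)) x₀) X) := by
        refine ⟨fun a b => ?_⟩
        rw [← Quotient.out_eq a, ← Quotient.out_eq b, Subsingleton.elim a.out b.out]
      exact Finite.card_le_one_iff_subsingleton.2 this
    omega
  have h3x : Nat.card (MulAction.orbitRel.Quotient (MulAction.stabilizer (SIso (sB hF n)) x) X) = 3 := by
    rw [← h3]
    exact H91.RankThree.card_orbits_eq x x₀
  have hco := MulAction.IsPreprimitive.isCoatom_stabilizer_of_isPreprimitive (G := Cfsg.PSU n F q) x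
  have hle : U ≤ MulAction.stabilizer (Cfsg.PSU n F q) x := fun u hu => hx u hu
  have hidx : ¬ p ∣ (MulAction.stabilizer (Cfsg.PSU n F q) x).index := fun h =>
    hU (h.trans (Subgroup.index_dvd_of_le hle))
  have hpar := (Cfsg.Agent.H396.CommTab.hasCG_PSU (F := F) (q := q) (N := n) hF (p := p) (by omega)).par
  obtain ⟨-, W, hW, hWp, -, hKW⟩ := hpar.of_isCoatom hco (fun h => hidx ((dvd_pow_self p two_ne_zero).trans h))
  -- the kernel is central
  have hcen : ∀ z : SIso (sB hF n), Cfsg.Agent.H91.U.pi hF n z = 1 → ∀ y, y * z = z * y := by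
    intro z hz y
    obtain ⟨a, ha⟩ := scalar_of_pi_eq_one hF (by omega) z hz
    apply Subtype.ext
    apply LinearEquiv.ext
    intro v
    change y.1 (z.1 v) = z.1 (y.1 v)
    rw [ha, ha, map_smul]
  obtain ⟨P, hPp, hPW, hPn⟩ := H783.SympStab.exists_lift (p := p) (Cfsg.Agent.H91.U.pi hF n) hps hcen hWp
  have hPne : P ≠ ⊥ := by
    rintro rfl
    rw [Subgroup.map_bot] at hPW
    exact hW hPW.symm
  obtain ⟨M, hM0, hTI, hM⟩ := exists_ti_of_pgroup hB hPp hPne
  have h4 := par_main hF hB (by rw [hV]; exact hn) x h3x.le hTI hM0 (fun g hg => ?_)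
  · rwa [hV] at h4
  · have h5 : ∀ k : SIso (sB hF n), k • x = x → ∀ y ∈ P, k * y * k⁻¹ ∈ P := by
      intro k hk
      refine hPn k fun y hy => ?_
      have h6 : Cfsg.Agent.H91.U.pi hF n k ∈ MulAction.stabilizer (Cfsg.PSU n F q) x := by
        rw [MulAction.mem_stabilizer_iff, ← hc, hk]
      exact (mem_normalizer_iff.1 (hKW h6) y).1 hy
    refine hM g (h5 g hg) fun y hy => ?_
    have h7 := h5 g⁻¹ (by rw [inv_smul_eq_iff]; exact hg.symm) y hy
    rwa [inv_inv] at h7

end Cfsg.Agent.H450.UF
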