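import Cfsg.Agent.H450.UF.Count
import Cfsg.Agent.H91.RankThree
import Cfsg.Agent.H91.U.Defs

/-!
# The isotropic points of a Hermitian space (helper450)

* `IPt B` : the isotropic points, with the action of `SIso B`;
* `card_IPt` : their number;
* `pretransitive_IPt`, `rank_IPt_le` : `SIso B` is transitive of rank at most three (`n ≥ 6`);
* `card_of_three` : if a point stabiliser of a transitive action on `X` of rank at most three has three orbits on the
  isotropic points, `|X|` is the number of isotropic points.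
-/

set_option autoImplicit false
set_option linter.unusedSectionVars false

namespace Cfsg.Agent.H450.UF

open Module Cfsg.Agent.H91.U Cfsg.Agent.H91.RankThree
open Cfsg.Agent.H950 (isoNum)
open scoped LinearAlgebra.Projectivization

variable {F V : Type*} [Field F] [AddCommGroup V] [Module F V] {σ : F →+* F} {B : V →ₛₗ[σ] V →ₗ[F] F} {j : ℕ}

variable (B) in
/-- the isotropic points -/
def IPt : Type _ := {p : ℙ F V // B p.rep p.rep = 0}

theorem iso_smul_iff {c : F} (hc : c ≠ 0) (v : V) : B (c • v) (c • v) = 0 ↔ B v v = 0 := by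
  rw [smul_left, smul_right, mul_eq_zero, mul_eq_zero, map_eq_zero]
  simp [hc]

theorem iso_rep {v : V} (hv : v ≠ 0) :
    B (Projectivization.mk F v hv).rep (Projectivization.mk F v hv).rep = 0 ↔ B v v = 0 := by
  obtain ⟨a, ha⟩ := Projectivization.exists_smul_eq_mk_rep F v hv
  rw [← ha]
  exact iso_smul_iff a.ne_zero v

/-- the point of an isotropic vector -/
def ipt {v : V} (hv : v ≠ 0) (h : B v v = 0) : IPt B := ⟨Projectivization.mk F v hv, (iso_rep hv).2 h⟩

theorem ipt_eq_iff {v w : V} (hv : v ≠ 0) (h : B v v = 0) (hw : w ≠ 0) (h' : B w w = 0) :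
    ipt hv h = ipt hw h' ↔ ∃ c : F, v = c • w := by
  have h1 : ipt hv h = ipt hw h' ↔ Projectivization.mk F v hv = Projectivization.mk F w hw :=
    ⟨fun e => congrArg Subtype.val e, fun e => Subtype.ext e⟩
  rw [h1, Projectivization.mk_eq_mk_iff']
  exact ⟨fun ⟨a, e⟩ => ⟨a, e.symm⟩, fun ⟨a, e⟩ => ⟨a, e.symm⟩⟩

theorem exists_ipt (p : IPt B) : ∃ (v : V) (hv : v ≠ 0) (h : B v v = 0), p = ipt hv h :=
  ⟨p.1.rep, p.1.rep_nonzero, p.2, Subtype.ext p.1.mk_rep.symm⟩

theorem iso_smul_rep (g : SIso B) (p : ℙ F V) (h : B p.rep p.rep = 0) : B (g • p).rep (g • p).rep = 0 := by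
  have e : g • p = Projectivization.mk F (g • p.rep) ((smul_ne_zero_iff_ne g).mpr p.rep_nonzero) := by
    conv_lhs => rw [← p.mk_rep]
    rfl
  rw [e, iso_rep, B_smul]
  exact h

instance : MulAction (SIso B) (IPt B) where
  smul g p := ⟨g • p.1, iso_smul_rep g p.1 p.2⟩
  one_smul p := Subtype.ext (one_smul _ p.1)
  mul_smul g h p := Subtype.ext (mul_smul g h p.1)

theorem smul_ipt (g : SIso B) {v : V} (hv : v ≠ 0) (h : B v v = 0) :
    g • ipt hv h = ipt (v := g • v) ((smul_ne_zero_iff_ne g).mpr hv) (by rw [B_smul]; exact h) := rfl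

theorem smul_ipt_eq_iff (g : SIso B) {v w : V} (hv : v ≠ 0) (h : B v v = 0) (hw : w ≠ 0) (h' : B w w = 0) :
    g • ipt hv h = ipt hw h' ↔ ∃ c : F, g • v = c • w := by
  rw [smul_ipt, ipt_eq_iff]

instance [Finite V] : Finite (IPt B) := Subtype.finite

/-- **the number of isotropic points** -/
theorem card_IPt [Fintype F] [FiniteDimensional F V] {q : ℕ} (hF : Fintype.card F = q ^ 2) (hB : HForm B) :
    Nat.card (IPt B) * (q ^ 2 - 1) = isoNum q (finrank F V) := by
  classical
  have hfV : Finite V := Module.finite_of_finite F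
  rw [← card_iso hF hB, ← hF, ← Fintype.card_units, ← Nat.card_eq_fintype_card, ← Nat.card_prod]
  refine Nat.card_congr (Equiv.ofBijective (fun p : IPt B × Fˣ => (⟨(p.2 : F) • p.1.1.rep,
    (iso_smul_iff p.2.ne_zero _).2 p.1.2, smul_ne_zero p.2.ne_zero p.1.1.rep_nonzero⟩ : {v : V // B v v = 0 ∧ v ≠ 0}))
    ⟨?_, ?_⟩)
  · rintro ⟨p, c⟩ ⟨p', c'⟩ e
    have e1 : (c : F) • p.1.rep = (c' : F) • p'.1.rep := congrArg Subtype.val e
    have e2 : p.1 = p'.1 := by
      rw [← p.1.mk_rep, ← p'.1.mk_rep, Projectivization.mk_eq_mk_iff']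
      refine ⟨(c : F)⁻¹ * c', ?_⟩
      rw [← smul_smul, ← e1, smul_smul, inv_mul_cancel₀ c.ne_zero, one_smul]
    have e3 : p = p' := Subtype.ext e2
    subst e3
    have e4 : (c : F) = c' := smul_left_injective F p.1.rep_nonzero e1
    rw [Units.ext e4]
  · rintro ⟨v, h, hv⟩
    obtain ⟨a, ha⟩ := Projectivization.exists_smul_eq_mk_rep F v hv
    refine ⟨(ipt hv h, a⁻¹), Subtype.ext ?_⟩
    change ((a⁻¹ : Fˣ) : F) • (Projectivization.mk F v hv).rep = v
    rw [← ha, Units.smul_def, smul_smul, ← Units.val_mul, inv_mul_cancel, Units.val_one, one_smul]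

theorem pretransitive_IPt [Finite F] [FiniteDimensional F V] (hB : HForm B) (hn : 4 ≤ finrank F V) :
    MulAction.IsPretransitive (SIso B) (IPt B) := by
  refine ⟨fun x y => ?_⟩
  obtain ⟨v, hv, h, rfl⟩ := exists_ipt x
  obtain ⟨w, hw, h', rfl⟩ := exists_ipt y
  obtain ⟨g, hg⟩ := exists_vec_map hB hn hv hw (h.trans h'.symm)
  exact ⟨g, (smul_ipt_eq_iff g hv h hw h').2 ⟨1, by rw [one_smul]; exact hg⟩⟩

theorem li_of_ipt_ne {v w : V} (hv : v ≠ 0) (h : B v v = 0) (hw : w ≠ 0) (h' : B w w = 0)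
    (hne : ipt hv h ≠ ipt hw h') : LinearIndependent F ![v, w] := by
  rw [LinearIndependent.pair_iff' hv]
  intro a e
  exact hne ((ipt_eq_iff hw h' hv h).2 ⟨a, e.symm⟩).symm

/-- `SIso B` is transitive on pairs of distinct isotropic points with the same relation -/
theorem exists_ipt_pair [Finite F] [FiniteDimensional F V] (hB : HForm B) (hn : 6 ≤ finrank F V) {p x y : IPt B}
    (hx : x ≠ p) (hy : y ≠ p) (h : B p.1.rep x.1.rep = 0 ↔ B p.1.rep y.1.rep = 0) :
    ∃ g : SIso B, g • p = p ∧ g • y = x := by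
  have hli : ∀ x : IPt B, x ≠ p → LinearIndependent F ![p.1.rep, x.1.rep] := by
    intro x hx
    rw [LinearIndependent.pair_iff' p.1.rep_nonzero]
    intro a e
    apply hx
    apply Subtype.ext
    rw [← x.1.mk_rep, ← p.1.mk_rep, Projectivization.mk_eq_mk_iff']
    exact ⟨a, e⟩
  obtain ⟨g, h1, c, hc, h2⟩ := exists_pair_map hB hn p.2 y.2 p.2 x.2 (hli y hy) (hli x hx) h.symm
  have hpt : ∀ x : IPt B, x = ipt x.1.rep_nonzero x.2 := fun x => Subtype.ext x.1.mk_rep.symm
  refine ⟨g, ?_, ?_⟩
  · conv_lhs => rw [hpt p]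
    conv_rhs => rw [hpt p]
    exact (smul_ipt_eq_iff g _ _ _ _).2 ⟨1, by rw [one_smul]; exact h1⟩
  · conv_lhs => rw [hpt y]
    conv_rhs => rw [hpt x]
    exact (smul_ipt_eq_iff g _ _ _ _).2 ⟨c, h2⟩

/-- the special isometry group has rank at most three on isotropic points -/
theorem rank_IPt_le [Finite F] [FiniteDimensional F V] (hB : HForm B) (hn : 6 ≤ finrank F V) (p : IPt B) :
    Nat.card (MulAction.orbitRel.Quotient (MulAction.stabilizer (SIso B) p) (IPt B)) ≤ 3 := by
  classical
  let c : IPt B → Fin 3 := fun x => if x = p then 0 else if B p.1.rep x.1.rep = 0 then 1 else 2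
  have key : ∀ x y : IPt B, c x = c y → x ∈ MulAction.orbit (MulAction.stabilizer (SIso B) p) y := by
    intro x y hxy
    by_cases h1 : x = p
    · have h2 : y = p := by
        by_contra h2
        have h3 : c x = 0 := if_pos h1
        have h4 : c y ≠ 0 := by
          change (if y = p then 0 else if B p.1.rep y.1.rep = 0 then 1 else 2) ≠ (0 : Fin 3)
          rw [if_neg h2]
          split_ifs <;> decide
        exact h4 (hxy ▸ h3)
      rw [h1, h2]
      exact MulAction.mem_orbit_self p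
    · have h2 : y ≠ p := by
        intro h2
        have h3 : c y = 0 := if_pos h2
        have h4 : c x ≠ 0 := by
          change (if x = p then 0 else if B p.1.rep x.1.rep = 0 then 1 else 2) ≠ (0 : Fin 3)
          rw [if_neg h1]
          split_ifs <;> decide
        exact h4 (hxy.trans h3)
      obtain ⟨g, h3, h4⟩ := exists_ipt_pair hB hn h1 h2 (by
        change (if x = p then 0 else if B p.1.rep x.1.rep = 0 then 1 else 2) =
          (if y = p then 0 else if B p.1.rep y.1.rep = 0 then 1 else (2 : Fin 3)) at hxy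
        rw [if_neg h1, if_neg h2] at hxy
        by_cases h5 : B p.1.rep x.1.rep = 0 <;> by_cases h6 : B p.1.rep y.1.rep = 0
        · exact ⟨fun _ => h6, fun _ => h5⟩
        · rw [if_pos h5, if_neg h6] at hxy
          exact absurd hxy (by decide)
        · rw [if_neg h5, if_pos h6] at hxy
          exact absurd hxy (by decide)
        · exact ⟨fun h => absurd h h5, fun h => absurd h h6⟩)
      exact ⟨⟨g, h3⟩, h4⟩
  let f : MulAction.orbitRel.Quotient (MulAction.stabilizer (SIso B) p) (IPt B) → Fin 3 := fun Q => c Q.out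
  have hf : Function.Injective f := by
    intro Q Q' e
    rw [← Quotient.out_eq Q, ← Quotient.out_eq Q']
    exact Quotient.sound (key _ _ e)
  have h1 := Nat.card_le_card_of_injective f hf
  rwa [Nat.card_eq_fintype_card (α := Fin 3), Fintype.card_fin] at h1

theorem three_le_IPt [Finite V] (K : Subgroup (SIso B)) {v : Fin 3 → V} (hv : ∀ i, v i ≠ 0)
    (hvv : ∀ i, B (v i) (v i) = 0) (h : ∀ i j, (∃ g ∈ K, ∃ c : F, g • v i = c • v j) → i = j) :
    3 ≤ Nat.card (MulAction.orbitRel.Quotient K (IPt B)) := by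
  have : Finite (MulAction.orbitRel.Quotient K (IPt B)) := Quotient.finite _
  let f : Fin 3 → MulAction.orbitRel.Quotient K (IPt B) := fun i => Quotient.mk'' (ipt (hv i) (hvv i))
  have hf : Function.Injective f := by
    intro i j e
    have h1 : ipt (hv i) (hvv i) ∈ MulAction.orbit K (ipt (hv j) (hvv j)) := Quotient.exact' e
    obtain ⟨⟨g, hg⟩, h2⟩ := h1
    have h3 : g • ipt (hv j) (hvv j) = ipt (hv i) (hvv i) := h2
    exact (h j i ⟨g, hg, (smul_ipt_eq_iff g _ _ _ _).1 h3⟩).symm
  have h1 := Nat.card_le_card_of_injective f hf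
  rwa [Nat.card_eq_fintype_card (α := Fin 3), Fintype.card_fin] at h1

/-- **The number of points.** -/
theorem card_of_three [Fintype F] [FiniteDimensional F V] {q : ℕ} (hF : Fintype.card F = q ^ 2) (hB : HForm B)
    (hn : 6 ≤ finrank F V) {X : Type*} [Fintype X] [MulAction (SIso B) X] [MulAction.IsPretransitive (SIso B) X]
    (x₀ : X) (h3 : Nat.card (MulAction.orbitRel.Quotient (MulAction.stabilizer (SIso B) x₀) X) ≤ 3)
    {v : Fin 3 → V} (hv : ∀ i, v i ≠ 0) (hvv : ∀ i, B (v i) (v i) = 0)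
    (h : ∀ i j, (∃ g ∈ MulAction.stabilizer (SIso B) x₀, ∃ c : F, g • v i = c • v j) → i = j) :
    Fintype.card X * (q ^ 2 - 1) = isoNum q (finrank F V) := by
  classical
  have hfV : Finite V := Module.finite_of_finite F
  have := pretransitive_IPt (F := F) hB (by omega)
  have : Finite (V ≃ₗ[F] V) := Finite.of_injective (fun g : V ≃ₗ[F] V => (g : V → V)) DFunLike.coe_injective
  have : Fintype (SIso B) := Fintype.ofFinite _
  have : Fintype (IPt B) := Fintype.ofFinite _
  have h1 := card_eq (G := SIso B) (X := X) (P := IPt B) x₀ (ipt (hv 0) (hvv 0)) h3 (rank_IPt_le hB hn _)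
    (three_le_IPt _ hv hvv h)
  rw [h1, ← Nat.card_eq_fintype_card (α := IPt B), card_IPt hF hB]

/-- the number in the form of S2196 -/
theorem isoNum_eq (q n : ℕ) : (Even n → isoNum q n = (q ^ n - 1) * (q ^ (n - 1) + 1)) ∧
    (Odd n → isoNum q n = (q ^ n + 1) * (q ^ (n - 1) - 1)) := by
  constructor
  · intro h
    unfold isoNum
    rw [if_pos h]
  · intro h
    unfold isoNum
    rw [if_neg (Nat.not_even_iff_odd.2 h)]

end Cfsg.Agent.H450.UF
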